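import Groth.Statements.S3895
import Mathlib

/-!
# First cohomology and torsors
-/

set_option autoImplicit false
set_option backward.isDefEq.respectTransparency false
set_option backward.isDefEq.respectTransparency.types false
set_option linter.style.haveILetI false

universe u

open CategoryTheory CategoryTheory.Limits Opposite Abelian

noncomputable section

namespace Groth.Agent.TorsH1Lib

variable {C : Type u} [SmallCategory C] {J : GrothendieckTopology C}

/-- Compatible families of sections. -/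
def Sec (F : Cᵒᵖ ⥤ Type u) : Type u :=
  {s : ∀ U, F.obj U // ∀ ⦃U V : Cᵒᵖ⦄ (f : U ⟶ V), F.map f (s U) = s V}

/-- A family constant on the sections of a locally nonempty sheaf descends to a global section. -/
theorem exists_sec {G : Sheaf J AddCommGrpCat.{u}} (T : Tors.Torsor G) (F : Sheaf J (Type u))
    (ρ : ∀ U, T.P.obj.obj U → F.obj.obj U)
    (hnat : ∀ ⦃U V : Cᵒᵖ⦄ (f : U ⟶ V) (t : T.P.obj.obj U), F.obj.map f (ρ U t) = ρ V (T.P.obj.map f t))
    (hconst : ∀ U (t t' : T.P.obj.obj U), ρ U t = ρ U t') :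
    ∃ s : Sec F.obj, ∀ U (t : T.P.obj.obj U), s.1 U = ρ U t := by
  have hF : Presieve.IsSheaf J F.obj := (isSheaf_iff_isSheaf_of_type _ _).1 F.property
  have key : ∀ U : C, ∃ y : F.obj.obj (op U), ∀ (V : C) (f : V ⟶ U) (t : T.P.obj.obj (op V)),
      F.obj.map f.op y = ρ (op V) t := by
    intro U
    obtain ⟨S, hS, hne⟩ := T.locally_nonempty U
    let x : Presieve.FamilyOfElements F.obj S.arrows := fun V f hf => ρ (op V) (hne f hf).some
    have hx : x.Compatible := fun Y₁ Y₂ Z g₁ g₂ f₁ f₂ h₁ h₂ _ => by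
      exact (hnat _ _).trans ((hconst _ _ _).trans (hnat _ _).symm)
    obtain ⟨y, hy, -⟩ := hF S hS x hx
    refine ⟨y, fun V f t => (hF _ (J.pullback_stable f hS)).isSeparatedFor.ext fun W g hg => ?_⟩
    refine (Functor.map_comp_apply F.obj f.op g.op y).symm.trans ?_
    rw [← op_comp]
    exact (hy (g ≫ f) hg).trans ((hconst _ _ _).trans (hnat g.op t).symm)
  choose y hy using key
  refine ⟨⟨fun U => y U.unop, fun U V f => ?_⟩, fun U t => ?_⟩
  · obtain ⟨S, hS, hne⟩ := T.locally_nonempty V.unop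
    refine (hF S hS).isSeparatedFor.ext fun W g hg => ?_
    obtain ⟨t⟩ := hne g hg
    refine Eq.trans ?_ (hy V.unop W g t).symm
    refine (Functor.map_comp_apply F.obj f g.op (y U.unop)).symm.trans ?_
    exact hy U.unop W (g ≫ f.unop) t
  · refine (FunctorToTypes.map_id_apply _ _).symm.trans ?_
    exact (hy U.unop U.unop (𝟙 _) t)

/-- Global sections of an abelian sheaf as maps out of the constant sheaf. -/
abbrev unitSheaf (J : GrothendieckTopology C) : Sheaf J AddCommGrpCat.{u} :=
  (constantSheaf J AddCommGrpCat.{u}).obj (AddCommGrpCat.of (ULift ℤ))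

variable {F F' : Sheaf J AddCommGrpCat.{u}}

/-- The global section of a map out of the constant sheaf. -/
def toSec (φ : unitSheaf J ⟶ F) : Sec (F.obj ⋙ forget _) :=
  ⟨fun U => ((sheafificationAdjunction J AddCommGrpCat.{u}).homEquiv _ _ φ).app U (ULift.up (1 : ℤ)), fun U V f =>
    (NatTrans.naturality_apply ((sheafificationAdjunction J AddCommGrpCat.{u}).homEquiv _ _ φ) f _).symm⟩

theorem toSec_comp (φ : unitSheaf J ⟶ F) (π : F ⟶ F') (U : Cᵒᵖ) :
    (toSec (φ ≫ π)).1 U = π.hom.app U ((toSec φ).1 U) := by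
  simp only [toSec, Adjunction.homEquiv_naturality_right]
  rfl

theorem toSec_injective : Function.Injective (toSec (F := F)) := by
  intro φ ψ h
  refine ((sheafificationAdjunction J AddCommGrpCat.{u}).homEquiv _ _).injective ?_
  refine NatTrans.ext (funext fun U => AddCommGrpCat.hom_ext ?_)
  exact (uliftZMultiplesHom _).symm.injective (congrFun (congrArg Subtype.val h) U)

/-- The map out of the constant sheaf of a global section. -/
def ofSec (s : Sec (F.obj ⋙ forget _)) : unitSheaf J ⟶ F :=
  ((sheafificationAdjunction J AddCommGrpCat.{u}).homEquiv _ _).symm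
    { app := fun U => AddCommGrpCat.ofHom (uliftZMultiplesHom (F.obj.obj U) (s.1 U))
      naturality := fun U V f => by
        refine AddCommGrpCat.hom_ext (AddMonoidHom.ext fun n => ?_)
        show uliftZMultiplesHom (F.obj.obj V) (s.1 V) n = (F.obj.map f).hom (uliftZMultiplesHom (F.obj.obj U) (s.1 U) n)
        rw [uliftZMultiplesHom_apply_apply, uliftZMultiplesHom_apply_apply, map_zsmul]
        exact congrArg (fun z : F.obj.obj V => n.down • z) (s.2 f).symm }

theorem toSec_ofSec (s : Sec (F.obj ⋙ forget _)) : toSec (ofSec s) = s := by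
  refine Subtype.ext (funext fun U => ?_)
  simp only [toSec, ofSec, Equiv.apply_symm_apply]
  exact (uliftZMultiplesHom _).symm_apply_apply (s.1 U)

section Extension

variable {G : Sheaf J AddCommGrpCat.{u}} (T : Tors.Torsor G)

/-- The relations making an abelian group extension out of a torsor. -/
def rel (U : Cᵒᵖ) : AddSubgroup (G.obj.obj U × (T.P.obj.obj U →₀ ℤ)) :=
  AddSubgroup.closure (Set.range fun p : G.obj.obj U × T.P.obj.obj U =>
    (-p.1, Finsupp.single (T.vadd p.1 p.2) (1 : ℤ) - Finsupp.single p.2 1))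

/-- Restriction before dividing by the relations. -/
def preMap {U V : Cᵒᵖ} (f : U ⟶ V) :
    G.obj.obj U × (T.P.obj.obj U →₀ ℤ) →+ G.obj.obj V × (T.P.obj.obj V →₀ ℤ) :=
  AddMonoidHom.prodMap (G.obj.map f).hom (Finsupp.mapDomain.addMonoidHom (T.P.obj.map f))

theorem rel_le {U V : Cᵒᵖ} (f : U ⟶ V) : rel T U ≤ (rel T V).comap (preMap T f) := by
  refine (AddSubgroup.closure_le _).2 ?_
  rintro _ ⟨⟨g, t⟩, rfl⟩
  refine AddSubgroup.subset_closure ⟨(G.obj.map f g, T.P.obj.map f t), ?_⟩
  simp [preMap, Finsupp.mapDomain_single, Finsupp.mapDomain_sub, T.map_vadd]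

/-- The extension presheaf of a torsor. -/
def extPresheaf : Cᵒᵖ ⥤ AddCommGrpCat.{u} where
  obj U := AddCommGrpCat.of ((G.obj.obj U × (T.P.obj.obj U →₀ ℤ)) ⧸ rel T U)
  map f := AddCommGrpCat.ofHom (QuotientAddGroup.map _ _ (preMap T f) (rel_le T f))
  map_id U := by
    refine AddCommGrpCat.hom_ext (AddMonoidHom.ext fun x => ?_)
    induction x using QuotientAddGroup.induction_on with
    | _ x =>
      refine congrArg QuotientAddGroup.mk (Prod.ext (by simp [preMap]) ?_)
      show Finsupp.mapDomain (T.P.obj.map (𝟙 U)) x.2 = x.2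
      rw [show (T.P.obj.map (𝟙 U) : T.P.obj.obj U → T.P.obj.obj U) = id from
        funext fun t => FunctorToTypes.map_id_apply _ _, Finsupp.mapDomain_id]
  map_comp {U V W} f g := by
    refine AddCommGrpCat.hom_ext (AddMonoidHom.ext fun x => ?_)
    induction x using QuotientAddGroup.induction_on with
    | _ x =>
      refine congrArg QuotientAddGroup.mk (Prod.ext (by simp [preMap]) ?_)
      show Finsupp.mapDomain (T.P.obj.map (f ≫ g)) x.2 = Finsupp.mapDomain (T.P.obj.map g) (Finsupp.mapDomain (T.P.obj.map f) x.2)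
      rw [← Finsupp.mapDomain_comp]
      exact congrArg (fun h => Finsupp.mapDomain h x.2) (funext fun t => Functor.map_comp_apply _ _ _ _)

/-- The inclusion of the sheaf in the extension. -/
def extIncl : G.obj ⟶ extPresheaf T where
  app U := AddCommGrpCat.ofHom ((QuotientAddGroup.mk' (rel T U)).comp (AddMonoidHom.inl _ _))
  naturality U V f := by
    refine AddCommGrpCat.hom_ext (AddMonoidHom.ext fun x => ?_)
    refine congrArg QuotientAddGroup.mk (Prod.ext rfl ?_)
    show (0 : T.P.obj.obj V →₀ ℤ) = Finsupp.mapDomain (T.P.obj.map f) 0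
    rw [Finsupp.mapDomain_zero]

theorem extIncl_injective (U : Cᵒᵖ) : Function.Injective ((extIncl T).app U) := by
  refine (injective_iff_map_eq_zero _).2 fun g hg => ?_
  have hg' : ((g, 0) : G.obj.obj U × (T.P.obj.obj U →₀ ℤ)) ∈ rel T U := (QuotientAddGroup.eq_zero_iff _).1 hg
  rcases isEmpty_or_nonempty (T.P.obj.obj U) with he | ⟨⟨t₀⟩⟩
  · have : rel T U = ⊥ := AddSubgroup.closure_eq_bot_iff.2 fun z ⟨p, _⟩ => (IsEmpty.false p.2).elim
    rw [this, AddSubgroup.mem_bot] at hg'
    exact congrArg Prod.fst hg'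
  · choose d hd using fun t => (T.free_transitive t₀ t).exists
    let Φ : G.obj.obj U × (T.P.obj.obj U →₀ ℤ) →+ G.obj.obj U :=
      AddMonoidHom.coprod (AddMonoidHom.id _) (Finsupp.liftAddHom fun t => zmultiplesHom _ (d t))
    have hle : rel T U ≤ Φ.ker := by
      refine (AddSubgroup.closure_le _).2 ?_
      rintro _ ⟨⟨g, t⟩, rfl⟩
      have h1 : d (T.vadd g t) = g + d t := (T.free_transitive t₀ _).unique (hd _) (by rw [T.add_vadd, hd])
      show -g + Finsupp.liftAddHom (fun t => zmultiplesHom _ (d t))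
        (Finsupp.single (T.vadd g t) (1 : ℤ) - Finsupp.single t 1) = 0
      rw [map_sub, Finsupp.liftAddHom_apply_single, Finsupp.liftAddHom_apply_single, h1]
      simp
    simpa [Φ] using hle hg'

/-- An injective sheaf receives the sections of a torsor equivariantly. -/
theorem exists_equivariant {I : Sheaf J AddCommGrpCat.{u}} [Injective I] (ι : G ⟶ I) :
    ∃ φ : ∀ U, T.P.obj.obj U → I.obj.obj U,
      (∀ ⦃U V : Cᵒᵖ⦄ (f : U ⟶ V) t, I.obj.map f (φ U t) = φ V (T.P.obj.map f t)) ∧
      ∀ U (g : G.obj.obj U) t, φ U (T.vadd g t) = ι.hom.app U g + φ U t := by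
  haveI : ∀ U, Mono ((extIncl T).app U) := fun U =>
    (AddCommGrpCat.mono_iff_injective _).2 (extIncl_injective T U)
  haveI : Mono (extIncl T) := NatTrans.mono_of_mono_app _
  haveI : Injective ((sheafToPresheaf J AddCommGrpCat.{u}).obj I) :=
    Injective.injective_of_adjoint (sheafificationAdjunction J AddCommGrpCat.{u}) I
  let e : extPresheaf T ⟶ (sheafToPresheaf J AddCommGrpCat.{u}).obj I := Injective.factorThru ι.hom (extIncl T)
  have he : extIncl T ≫ e = ι.hom := Injective.comp_factorThru _ _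
  refine ⟨fun U t => e.app U (QuotientAddGroup.mk (0, Finsupp.single t 1)), fun U V f t => ?_, fun U g t => ?_⟩
  · refine (NatTrans.naturality_apply e f _).symm.trans (congrArg (e.app V) ?_)
    refine congrArg QuotientAddGroup.mk (Prod.ext (map_zero (G.obj.map f).hom) ?_)
    exact Finsupp.mapDomain_single
  · rw [← he]
    refine (congrArg (e.app U) ?_).trans (map_add (e.app U).hom _ _)
    refine (QuotientAddGroup.eq_iff_sub_mem.2 ?_)
    simp only [AddMonoidHom.coe_comp, Function.comp_apply, AddMonoidHom.inl_apply, Prod.mk_add_mk, add_zero, zero_add,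
      Prod.mk_sub_mk, zero_sub]
    exact AddSubgroup.subset_closure ⟨(g, t), rfl⟩

end Extension

section Main

variable (G : Sheaf J AddCommGrpCat.{u})

/-- The embedding into an injective sheaf and its quotient. -/
def seq : ShortComplex (Sheaf J AddCommGrpCat.{u}) :=
  ShortComplex.mk (Injective.ι G) (cokernel.π (Injective.ι G)) (cokernel.condition _)

theorem shortExact_seq : (seq G).ShortExact where
  exact := ShortComplex.exact_of_g_is_cokernel _ (cokernelIsCokernel _)
  mono_f := inferInstanceAs (Mono (Injective.ι G))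
  epi_g := inferInstanceAs (Epi (cokernel.π (Injective.ι G)))

theorem seq_lift (U : Cᵒᵖ) (a : (seq G).X₂.obj.obj U) (ha : (seq G).g.hom.app U a = 0) :
    ∃ g : G.obj.obj U, (seq G).f.hom.app U g = a := by
  let F := sheafToPresheaf J AddCommGrpCat.{u} ⋙ (evaluation _ _).obj U
  haveI : Mono (seq G).f := inferInstanceAs (Mono (Injective.ι G))
  have h := (shortExact_seq G).exact.map_of_mono_of_preservesKernel F inferInstance inferInstance
  exact (ShortComplex.ab_exact_iff _).1 h a ha

theorem ι_injective (U : Cᵒᵖ) : Function.Injective ((seq G).f.hom.app U) := by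
  haveI : Mono ((seq G).f.hom.app U) :=
    inferInstanceAs (Mono ((sheafToPresheaf J AddCommGrpCat.{u} ⋙ (evaluation _ _).obj U).map (Injective.ι G)))
  exact (AddCommGrpCat.mono_iff_injective _).1 inferInstance

theorem hasSection_of_sec {G : Sheaf J AddCommGrpCat.{u}} (T : Tors.Torsor G) (s : Sec T.P.obj) : T.HasSection := by
  let one : Sheaf J (Type u) := ⟨(Functor.const Cᵒᵖ).obj PUnit, (isSheaf_iff_isSheaf_of_type _ _).2
    fun X S _ x _ => ⟨PUnit.unit, fun _ _ _ => rfl, fun _ _ => rfl⟩⟩
  let t : one ⟶ T.P := ⟨{ app := fun U => TypeCat.ofHom fun _ => s.1 U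
                          naturality := fun U V f => ConcreteCategory.hom_ext _ _ fun _ => (s.2 f).symm }⟩
  haveI : ∀ X : Sheaf J (Type u), Unique (X ⟶ one) := fun X =>
    { default := ⟨{ app := fun U => TypeCat.ofHom fun _ => PUnit.unit
                    naturality := fun U V f => ConcreteCategory.hom_ext _ _ fun _ => rfl }⟩
      uniq := fun m => Sheaf.hom_ext (NatTrans.ext (funext fun U => ConcreteCategory.hom_ext _ _ fun _ => rfl)) }
  exact ⟨(terminalIsTerminal.uniqueUpToIso (IsTerminal.ofUnique one)).hom ≫ t⟩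

theorem sec_of_hasSection {G : Sheaf J AddCommGrpCat.{u}} (T : Tors.Torsor G) (h : T.HasSection) :
    Nonempty (Sec T.P.obj) := by
  obtain ⟨t⟩ := h
  let one : Sheaf J (Type u) := ⟨(Functor.const Cᵒᵖ).obj PUnit, (isSheaf_iff_isSheaf_of_type _ _).2
    fun X S _ x _ => ⟨PUnit.unit, fun _ _ _ => rfl, fun _ _ => rfl⟩⟩
  let q : one ⟶ T.P := terminal.from one ≫ t
  exact ⟨⟨fun U => q.hom.app U PUnit.unit, fun U V f => (NatTrans.naturality_apply q.hom f PUnit.unit).symm⟩⟩

/-- Vanishing of `H¹` gives sections of torsors. -/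
theorem hasSection (h : Subsingleton (Sheaf.H.{u} G 1)) (T : Tors.Torsor G) : T.HasSection := by
  haveI : Injective (seq G).X₂ := inferInstanceAs (Injective (Injective.under G))
  obtain ⟨φ, hnat, hadd⟩ := exists_equivariant T (seq G).f
  let π := (seq G).g
  have hπι : ∀ U g, π.hom.app U ((seq G).f.hom.app U g) = 0 := fun U g =>
    congrArg (fun z : (seq G).X₁ ⟶ (seq G).X₃ => z.hom.app U g) (seq G).zero
  obtain ⟨s, hs⟩ := exists_sec T ((sheafCompose J (forget AddCommGrpCat.{u})).obj (seq G).X₃)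
    (fun U t => π.hom.app U (φ U t))
    (fun U V f t => ((NatTrans.naturality_apply π.hom f _).symm).trans (congrArg (π.hom.app V) (hnat f t)))
    fun U t t' => by
      obtain ⟨g, rfl⟩ := (T.free_transitive t t').exists
      rw [hadd, map_add]
      exact ((congrArg (fun z => z + π.hom.app U (φ U t)) (hπι U g)).trans (zero_add _)).symm
  let ξ : unitSheaf J ⟶ (seq G).X₃ := ofSec s
  obtain ⟨x₂, hx₂⟩ := Ext.covariant_sequence_exact₃ (unitSheaf J) (shortExact_seq G) (Ext.mk₀ ξ) rfl
    (@Subsingleton.elim _ h _ _)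
  obtain ⟨ψ, rfl⟩ := (Ext.mk₀_bijective _ _).2 x₂
  rw [Ext.mk₀_comp_mk₀] at hx₂
  have hψ : ψ ≫ π = ξ := (Ext.mk₀_bijective _ _).1 hx₂
  have hi : ∀ U, π.hom.app U ((toSec ψ).1 U) = s.1 U := fun U => by
    rw [← toSec_comp, hψ, toSec_ofSec]
  have hd : ∀ U t, ∃ g : G.obj.obj U, (seq G).f.hom.app U g = φ U t - (toSec ψ).1 U := fun U t =>
    seq_lift G U _ (by rw [map_sub]; exact sub_eq_zero.2 ((hs U t).symm.trans (hi U).symm))
  choose d hd using hd
  obtain ⟨σ, -⟩ := exists_sec T T.P (fun U t => T.vadd (-d U t) t)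
    (fun U V f t => by
      rw [T.map_vadd, map_neg]
      refine congrArg (fun g => T.vadd (-g) _) (ι_injective G V ?_)
      rw [hd, ← hnat f t, ← (toSec ψ).2 f]
      refine (NatTrans.naturality_apply (seq G).f.hom f _).trans ?_
      rw [hd]
      exact map_sub (( (seq G).X₂.obj.map f).hom) _ _)
    fun U t t' => by
      obtain ⟨g, rfl⟩ := (T.free_transitive t t').exists
      have h1 : d U (T.vadd g t) = g + d U t := ι_injective G U
        ((hd U _).trans (by rw [hadd, add_sub_assoc, ← hd]; exact (map_add ((seq G).f.hom.app U).hom g (d U t)).symm))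
      rw [h1, ← T.add_vadd]
      congr 1
      abel
  exact hasSection_of_sec T σ

/-- The torsor of lifts of a global section of the quotient. -/
def liftTorsor (s : Sec ((seq G).X₃.obj ⋙ forget _)) : Tors.Torsor G :=
  let π := (seq G).g
  have hres : ∀ {U V : Cᵒᵖ} (f : U ⟶ V) (i : (seq G).X₂.obj.obj U), π.hom.app U i = s.1 U →
      π.hom.app V ((seq G).X₂.obj.map f i) = s.1 V := fun {U V} f i hi =>
    (NatTrans.naturality_apply π.hom f i).trans ((congrArg _ hi).trans (s.2 f))
  let P : Cᵒᵖ ⥤ Type u :=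
    { obj := fun U => {i : (seq G).X₂.obj.obj U // π.hom.app U i = s.1 U}
      map := fun f => TypeCat.ofHom fun i => ⟨(seq G).X₂.obj.map f i.1, hres f i.1 i.2⟩
      map_id := fun U => ConcreteCategory.hom_ext _ _ fun i => Subtype.ext (by simp)
      map_comp := fun f g => ConcreteCategory.hom_ext _ _ fun i => Subtype.ext (by simp) }
  have hI : Presieve.IsSheaf J ((seq G).X₂.obj ⋙ forget _) :=
    (isSheaf_iff_isSheaf_of_type _ _).1 ((sheafCompose J (forget _)).obj (seq G).X₂).property
  have hQ : Presieve.IsSheaf J ((seq G).X₃.obj ⋙ forget _) :=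
    (isSheaf_iff_isSheaf_of_type _ _).1 ((sheafCompose J (forget _)).obj (seq G).X₃).property
  have hP : Presieve.IsSheaf J P := fun U S hS x hx => by
    let x' : Presieve.FamilyOfElements ((seq G).X₂.obj ⋙ forget _) S.arrows := fun V f hf => (x f hf).1
    have hx' : x'.Compatible := fun Y₁ Y₂ Z g₁ g₂ f₁ f₂ h₁ h₂ e => congrArg Subtype.val (hx g₁ g₂ h₁ h₂ e)
    obtain ⟨y, hy, huniq⟩ := hI S hS x' hx'
    have hy' : π.hom.app (op U) y = s.1 (op U) := (hQ S hS).isSeparatedFor.ext fun V f hf =>
      (NatTrans.naturality_apply π.hom f.op y).symm.trans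
        ((congrArg (π.hom.app (op V)) (hy f hf)).trans ((x f hf).2.trans (s.2 f.op).symm))
    exact ⟨⟨y, hy'⟩, fun V f hf => Subtype.ext (hy f hf),
      fun z hz => Subtype.ext (huniq z.1 fun V f hf => congrArg Subtype.val (hz f hf))⟩
  have hπι : ∀ U g, π.hom.app U ((seq G).f.hom.app U g) = 0 := fun U g =>
    congrArg (fun z : (seq G).X₁ ⟶ (seq G).X₃ => z.hom.app U g) (seq G).zero
  { P := ⟨P, (isSheaf_iff_isSheaf_of_type _ _).2 hP⟩
    vadd := fun {U} g p => ⟨(seq G).f.hom.app U g + p.1, by rw [map_add, hπι, zero_add]; exact p.2⟩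
    zero_vadd := fun p => Subtype.ext (by
      show _ + p.1 = p.1
      rw [map_zero, zero_add])
    add_vadd := fun g h p => Subtype.ext (by
      show _ + p.1 = _ + (_ + p.1)
      rw [map_add, add_assoc])
    map_vadd := fun {U V} f g p => Subtype.ext (by
      show (seq G).X₂.obj.map f (_ + p.1) = _ + (seq G).X₂.obj.map f p.1
      rw [map_add]
      exact congrArg (· + _) (NatTrans.naturality_apply (seq G).f.hom f g).symm)
    free_transitive := fun {U} p q => by
      obtain ⟨g, hg⟩ := seq_lift G U (q.1 - p.1) (by rw [map_sub]; exact sub_eq_zero.2 (q.2.trans p.2.symm))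
      refine ⟨g, Subtype.ext (by show _ + p.1 = q.1; rw [hg, sub_add_cancel]), fun g' hg' => ι_injective G U ?_⟩
      rw [hg]
      exact eq_sub_of_add_eq (congrArg Subtype.val hg')
    locally_nonempty := fun U => by
      haveI : Epi (seq G).g := (shortExact_seq G).epi_g
      haveI : Sheaf.IsLocallySurjective (seq G).g := (Sheaf.isLocallySurjective_iff_epi' _ _).2 inferInstance
      refine ⟨_, Presheaf.imageSieve_mem J (seq G).g.hom (s.1 (op U)), fun V f ⟨t, ht⟩ => ⟨⟨t, ?_⟩⟩⟩
      exact ht.trans (s.2 f.op) }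

/-- `H¹` vanishes when all torsors have sections. -/
theorem subsingleton_H1 (h : ∀ T : Tors.Torsor G, T.HasSection) : Subsingleton (Sheaf.H.{u} G 1) := by
  refine subsingleton_of_forall_eq 0 fun x => ?_
  haveI : Injective (seq G).X₂ := inferInstanceAs (Injective (Injective.under G))
  obtain ⟨x₃, rfl⟩ := Ext.covariant_sequence_exact₁ (unitSheaf J) (shortExact_seq G) x
    (Ext.eq_zero_of_injective _) (n₀ := 0) rfl
  obtain ⟨φ, rfl⟩ := (Ext.mk₀_bijective _ _).2 x₃
  obtain ⟨σ⟩ := sec_of_hasSection _ (h (liftTorsor G (toSec φ)))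
  let i : Sec ((seq G).X₂.obj ⋙ forget _) :=
    ⟨fun U => (σ.1 U).1, fun U V f => congrArg Subtype.val (σ.2 f)⟩
  have hφ : ofSec i ≫ (seq G).g = φ := toSec_injective (Subtype.ext (funext fun U => by
    rw [toSec_comp, toSec_ofSec]; exact (σ.1 U).2))
  rw [← hφ, ← Ext.mk₀_comp_mk₀, Ext.comp_assoc_of_second_deg_zero, (shortExact_seq G).comp_extClass,
    Ext.comp_zero]

end Main

end Groth.Agent.TorsH1Lib

end
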